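import Groth.Prelude.Def_CxOX
import Groth.Agent.Lib.Lead.QC.SubExt
import Groth.Agent.Lib.Lead.QC.Compact

/-! # Sections of `Γ_Z(F)` over an affine open: sections killed by a power of the ideal of `Z`. -/

set_option autoImplicit false
universe u
open CategoryTheory CategoryTheory.Limits AlgebraicGeometry Opposite
open Groth.Agent.LD

namespace Groth.Agent.LD.LocCohZ

/-- a section of a quasi-coherent module over an affine open `V` vanishes on `V ∩ j(U)` iff it is killed by a
power of a finitely generated ideal cutting out the complement of `j(U)` in `V`. -/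
lemma res_eq_zero_iff_pow_smul {U X : Scheme.{u}} (j : U ⟶ X) [IsOpenImmersion j]
    (F : X.Modules) [F.IsQuasicoherent] (V : X.Opens) (hV : IsAffineOpen V)
    (I : Ideal Γ(X, V)) (hI : I.FG)
    (hZ : ∀ x : X, x ∈ V → (x ∉ Set.range j.base ↔ ∀ f ∈ I, x ∉ X.basicOpen f))
    (s : Γ(F, V)) :
    F.presheaf.map (homOfLE (j.image_preimage_le V)).op s = 0 ↔
      ∃ n : ℕ, ∀ a ∈ I ^ n, a • s = 0 := by
  have hle : ∀ g : Γ(X, V), g ∈ I → X.basicOpen g ≤ j ''ᵁ (j ⁻¹ᵁ V) := by
    intro g hg x hx
    have hxV : x ∈ V := X.basicOpen_le g hx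
    have hxr : x ∈ Set.range j.base := by
      by_contra hcon
      exact ((hZ x hxV).mp hcon) g hg hx
    obtain ⟨y, rfl⟩ := hxr
    exact ⟨y, hxV, rfl⟩
  have hcov : j ''ᵁ (j ⁻¹ᵁ V) ≤ ⨆ g : I, X.basicOpen (g.1 : Γ(X, V)) := by
    rintro x ⟨y, hy, rfl⟩
    have hxV : j.base y ∈ V := hy
    have : ¬ (∀ f ∈ I, j.base y ∉ X.basicOpen f) := by
      intro hcon
      exact ((hZ _ hxV).mpr hcon) ⟨y, rfl⟩
    push Not at this
    obtain ⟨f, hf, hxf⟩ := this
    exact TopologicalSpace.Opens.mem_iSup.mpr ⟨⟨f, hf⟩, hxf⟩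
  constructor
  · intro hs
    let J : Ideal Γ(X, V) := LinearMap.ker (LinearMap.toSpanSingleton Γ(X, V) Γ(F, V) s)
    have hIJ : I ≤ J.radical := by
      intro g hg
      have h0 : F.presheaf.map (homOfLE (X.basicOpen_le g)).op s = 0 := by
        have : F.presheaf.map (homOfLE (X.basicOpen_le g)).op s =
            F.presheaf.map (homOfLE (hle g hg)).op
              (F.presheaf.map (homOfLE (j.image_preimage_le V)).op s) := by
          rw [← ConcreteCategory.comp_apply, ← Functor.map_comp]
          rfl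
        rw [this, hs, map_zero]
      obtain ⟨n, hn⟩ := QC.affine_inj F hV g s h0
      exact ⟨n, by
        change g ^ n ∈ LinearMap.ker _
        rw [LinearMap.mem_ker, LinearMap.toSpanSingleton_apply]
        exact hn⟩
    obtain ⟨k, hk⟩ := Ideal.exists_pow_le_of_le_radical_of_fg hIJ hI
    refine ⟨k, fun a ha => ?_⟩
    have := hk ha
    change a ∈ LinearMap.ker _ at this
    rw [LinearMap.mem_ker, LinearMap.toSpanSingleton_apply] at this
    exact this
  · rintro ⟨n, hn⟩
    refine QC.section_eq_zero_of_cover F (fun g : I => X.basicOpen (g.1 : Γ(X, V)))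
      (fun g => hle g.1 g.2) hcov _ (fun g => ?_)
    have e1 : F.presheaf.map (homOfLE (hle g.1 g.2)).op
          (F.presheaf.map (homOfLE (j.image_preimage_le V)).op s) =
        F.presheaf.map (homOfLE (X.basicOpen_le g.1)).op s := by
      rw [← ConcreteCategory.comp_apply, ← Functor.map_comp]
      rfl
    rw [e1]
    have h2 : (g.1 : Γ(X, V)) ^ n • s = 0 := hn _ (Ideal.pow_mem_pow g.2 n)
    have h3 := congrArg (F.presheaf.map (homOfLE (X.basicOpen_le g.1)).op) h2
    rw [QC.smul_res, map_zero, map_pow] at h3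
    have hu : IsUnit (X.presheaf.map (homOfLE (X.basicOpen_le g.1)).op g.1) :=
      RingedSpace.isUnit_res_basicOpen _ g.1
    have hu' := hu.pow n
    obtain ⟨v, hv⟩ := hu'
    rw [← hv] at h3
    have := congrArg (fun z => (↑v⁻¹ : Γ(X, X.basicOpen g.1)) • z) h3
    simpa [smul_smul] using this


end Groth.Agent.LD.LocCohZ
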